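import Cfsg.Agent.Lib.SingPair.Basic

/-!
The stabiliser in `Ω` of two complementary maximal totally singular subspaces of even
dimension is maximal.
-/

set_option autoImplicit false
set_option linter.unusedSectionVars false

namespace Cfsg.Agent.Lib.SingPair

open Matrix QuadraticMap
open Cfsg.Agent.Lib.FormMax.OrthSL (eichlerGL eichlerGL_mulVec Q_eichlerGL)
open Cfsg.Agent.Lib.SingMax (gl_ext' E_mem_omega)

variable {ι : Type} [Fintype ι] [DecidableEq ι] {F : Type*} [Field F]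
  {Q : QuadraticForm F (ι → F)} {k : ℕ} {U W : Submodule F (ι → F)}

local notation "mat" g:max => ((g : GL ι F) : Matrix ι ι F)

theorem omega_iso {g : GL ι F} (hg : g ∈ Cfsg.Geo.omegaGL ⇑Q) (v : ι → F) :
    Q ((mat g) *ᵥ v) = Q v := by
  obtain ⟨g, -, rfl⟩ := hg
  exact Orth.mem_isometryGroup_iff.1 g.2 v

theorem finrank_map_gl (g : GL ι F) (S : Submodule F (ι → F)) :
    Module.finrank F (S.map (Matrix.toLin' (mat g))) = Module.finrank F S :=
  (Submodule.equivMapOfInjective _ (by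
    rw [Matrix.toLin'_apply']
    exact Matrix.mulVec_injective_of_isUnit g.isUnit) S).finrank_eq.symm

theorem gl_map_inj {g : GL ι F} {S T : Submodule F (ι → F)}
    (h : S.map (Matrix.toLin' (mat g)) = T.map (Matrix.toLin' (mat g))) : S = T :=
  Submodule.map_injective_of_injective (by
    rw [Matrix.toLin'_apply']
    exact Matrix.mulVec_injective_of_isUnit g.isUnit) h

theorem submodule_sub_or {S A B : Submodule F (ι → F)} (h : ∀ x ∈ S, x ∈ A ∨ x ∈ B) :
    S ≤ A ∨ S ≤ B := by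
  by_contra hc
  rw [not_or, SetLike.not_le_iff_exists, SetLike.not_le_iff_exists] at hc
  obtain ⟨⟨x, hx, hxA⟩, y, hy, hyB⟩ := hc
  have hxB := (h x hx).resolve_left hxA
  have hyA := (h y hy).resolve_right hyB
  rcases h _ (S.add_mem hx hy) with h1 | h1
  · exact hxA ((A.add_mem_iff_left hyA).1 h1)
  · exact hyB ((B.add_mem_iff_right hxB).1 h1)

section Swap

variable [Finite F] (hQ : (QuadraticMap.polarBilin Q).Nondegenerate) (hn : 7 ≤ Fintype.card ι)
include hQ hn

/-- An element of `Ω` interchanging two complementary maximal singular subspaces of even dimension. -/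
theorem exists_swap (P : SPair Q k U W) (hke : Even k) :
    ∃ g ∈ Cfsg.Geo.omegaGL ⇑Q, (∀ x ∈ U, (mat g) *ᵥ x ∈ W) ∧ ∀ x ∈ W, (mat g) *ᵥ x ∈ U := by
  classical
  let b := Module.finBasisOfFinrankEq F W P.dimW
  have hsep : ∀ i, ∃ p ∈ U, (∀ s ∈ Submodule.span F ((fun j => (b j : ι → F)) '' {i}ᶜ),
      polar ⇑Q p s = 0) ∧ polar ⇑Q p (b i : ι → F) = 1 := fun i =>
    P.sep hQ (Submodule.span_le.2 (by rintro _ ⟨j, -, rfl⟩; exact (b j).2)) (b i).2
      ((b.linearIndependent.map' W.subtype W.ker_subtype).notMem_span_image (by simp))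
  choose u huU hu0 hu1 using hsep
  have hub : ∀ i j, polar ⇑Q (u i) (b j : ι → F) = if i = j then 1 else 0 := by
    intro i j
    split_ifs with h
    · exact h ▸ hu1 i
    · exact hu0 i _ (Submodule.subset_span ⟨j, fun e => h e.symm, rfl⟩)
  have hbu : ∀ i j, polar ⇑Q (b j : ι → F) (u i) = if i = j then 1 else 0 := fun i j => by
    rw [polar_comm]; exact hub i j
  have huu : ∀ i j, polar ⇑Q (u i) (u j) = 0 := fun i j => P.polar_U (huU i) (huU j)
  have hbb : ∀ i j, polar ⇑Q (b i : ι → F) (b j : ι → F) = 0 := fun i j =>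
    P.polar_W (b i).2 (b j).2
  have huQ : ∀ i, Q (u i) = 0 := fun i => P.qU _ (huU i)
  have hbQ : ∀ i, Q (b i : ι → F) = 0 := fun i => P.qW _ (b i).2
  have hind : ∀ m : ℕ, 2 * m ≤ k → ∃ g ∈ Cfsg.Geo.omegaGL ⇑Q,
      (∀ i : Fin k, (i : ℕ) < 2 * m → (mat g) *ᵥ (b i : ι → F) ∈ U ∧
        ∃ j : Fin k, (j : ℕ) < 2 * m ∧ ∃ s : F, (mat g) *ᵥ (s • u j) = (b i : ι → F)) ∧
      ∀ i : Fin k, 2 * m ≤ (i : ℕ) →
        (mat g) *ᵥ (b i : ι → F) = (b i : ι → F) ∧ (mat g) *ᵥ u i = u i := by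
    intro m
    induction m with
    | zero =>
      exact fun _ => ⟨1, one_mem _, fun i hi => absurd hi (by omega), fun i _ => by simp⟩
    | succ m ih =>
      intro hm
      obtain ⟨g, hg, hlo, hhi⟩ := ih (by omega)
      let p : Fin k := ⟨2 * m, by omega⟩
      let q : Fin k := ⟨2 * m + 1, by omega⟩
      have hpq : p ≠ q := by simp [p, q, Fin.ext_iff]
      let X := eichlerGL Q (u p) (u q) (huQ p) (huu p q)
      let Y := eichlerGL Q (b p : ι → F) (b q : ι → F) (hbQ p) (hbb p q)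
      let n := X * Y * X
      have hnΩ : n ∈ Cfsg.Geo.omegaGL ⇑Q :=
        mul_mem (mul_mem (E_mem_omega hQ hn _ _) (E_mem_omega hQ hn _ _)) (E_mem_omega hQ hn _ _)
      have hX : ∀ v, (mat X) *ᵥ v =
          v + polar ⇑Q (u p) v • u q - polar ⇑Q (u q) v • u p := fun v => by
        rw [eichlerGL_mulVec, huQ q, zero_mul, add_zero]
      have hY : ∀ v, (mat Y) *ᵥ v = v + polar ⇑Q (b p : ι → F) v • (b q : ι → F)
          - polar ⇑Q (b q : ι → F) v • (b p : ι → F) := fun v => by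
        rw [eichlerGL_mulVec, hbQ q, zero_mul, add_zero]
      have hn' : ∀ v, (mat n) *ᵥ v = (mat X) *ᵥ ((mat Y) *ᵥ ((mat X) *ᵥ v)) := fun v => by
        simp only [n, Units.val_mul, mulVec_mulVec, mul_assoc]
      have nb : ∀ i, i ≠ p → i ≠ q → (mat n) *ᵥ (b i : ι → F) = (b i : ι → F) := fun i h1 h2 => by
        simp [hn', hX, hY, hub, hbb, h1.symm, h2.symm]
      have nu : ∀ i, i ≠ p → i ≠ q → (mat n) *ᵥ u i = u i := fun i h1 h2 => by
        simp [hn', hX, hY, hbu, huu, h1, h2]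
      have np : (mat n) *ᵥ (b p : ι → F) = u q := by
        simp only [hn', hX, hY, polar_add_right, polar_sub_right, polar_smul_right, hub, hbu, huu,
          hbb, if_true, if_neg hpq, if_neg hpq.symm, smul_eq_mul]
        module
      have nq : (mat n) *ᵥ (b q : ι → F) = -u p := by
        simp only [hn', hX, hY, polar_add_right, polar_sub_right, polar_smul_right, hub, hbu, huu,
          hbb, if_true, if_neg hpq, if_neg hpq.symm, smul_eq_mul]
        module
      have nuq : (mat n) *ᵥ ((-1 : F) • u q) = (b p : ι → F) := by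
        simp only [hn', hX, hY, polar_add_right, polar_sub_right, polar_smul_right, hub, hbu, huu,
          hbb, if_true, if_neg hpq, if_neg hpq.symm, smul_eq_mul]
        module
      have nup : (mat n) *ᵥ ((1 : F) • u p) = (b q : ι → F) := by
        simp only [hn', hX, hY, polar_add_right, polar_sub_right, polar_smul_right, hub, hbu, huu,
          hbb, if_true, if_neg hpq, if_neg hpq.symm, smul_eq_mul]
        module
      have hval : ∀ v, (mat (g * n)) *ᵥ v = (mat g) *ᵥ ((mat n) *ᵥ v) := fun v => by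
        rw [Units.val_mul, mulVec_mulVec]
      refine ⟨g * n, mul_mem hg hnΩ, fun i hi => ?_, fun i hi => ?_⟩
      · by_cases h1 : (i : ℕ) < 2 * m
        · have e1 : i ≠ p := fun e => by simp [e, p] at h1
          have e2 : i ≠ q := fun e => by simp [e, q] at h1
          obtain ⟨hgU, j, hj, s, hjs⟩ := hlo i h1
          refine ⟨by rw [hval, nb i e1 e2]; exact hgU, j, by omega, s, ?_⟩
          have f1 : j ≠ p := fun e => by simp [e, p] at hj
          have f2 : j ≠ q := fun e => by simp [e, q] at hj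
          rw [hval, mulVec_smul, nu j f1 f2, hjs]
        · have hu' : ∀ j : Fin k, 2 * m ≤ (j : ℕ) → (mat g) *ᵥ u j = u j := fun j hj => (hhi j hj).2
          have hb' : ∀ j : Fin k, 2 * m ≤ (j : ℕ) → (mat g) *ᵥ (b j : ι → F) = (b j : ι → F) :=
            fun j hj => (hhi j hj).1
          rcases (show i = p ∨ i = q by simp only [p, q, Fin.ext_iff]; omega) with rfl | rfl
          · refine ⟨by rw [hval, np, hu' q (by simp [q])]; exact huU q, q, by simp [q]; omega, -1, ?_⟩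
            rw [hval, nuq, hb' p (by simp [p])]
          · refine ⟨by rw [hval, nq, mulVec_neg, hu' p (by simp [p])]; exact U.neg_mem (huU p), p,
              by simp [p], 1, ?_⟩
            rw [hval, nup, hb' q (by simp [q])]
      · have e1 : i ≠ p := fun e => by simp [e, p] at hi
        have e2 : i ≠ q := fun e => by simp [e, q] at hi; omega
        rw [hval, hval, nb i e1 e2, nu i e1 e2]
        exact hhi i (by omega)
  obtain ⟨m, hm⟩ := hke
  obtain ⟨g, hg, hlo, -⟩ := hind m (by omega)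
  have hWU : ∀ x ∈ W, (mat g) *ᵥ x ∈ U := by
    intro x hx
    have e : x = ∑ i, b.repr ⟨x, hx⟩ i • (b i : ι → F) := by
      refine (congrArg Subtype.val (b.sum_repr ⟨x, hx⟩)).symm.trans ?_
      simp only [Submodule.coe_sum, Submodule.coe_smul]
    rw [e, mulVec_sum]
    exact Submodule.sum_mem _ fun i _ => by
      rw [mulVec_smul]; exact U.smul_mem _ (hlo i (by omega)).1
  refine ⟨g, hg, ?_, hWU⟩
  have hle : W ≤ U.map (Matrix.toLin' (mat g)) := by
    intro x hx
    have e : x = ∑ i, b.repr ⟨x, hx⟩ i • (b i : ι → F) := by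
      refine (congrArg Subtype.val (b.sum_repr ⟨x, hx⟩)).symm.trans ?_
      simp only [Submodule.coe_sum, Submodule.coe_smul]
    rw [e]
    refine Submodule.sum_mem _ fun i _ => Submodule.smul_mem _ _ ?_
    obtain ⟨-, j, -, s, hjs⟩ := hlo i (by omega)
    exact ⟨s • u j, U.smul_mem _ (huU j), by rw [Matrix.toLin'_apply]; exact hjs⟩
  have heq := Submodule.eq_of_le_of_finrank_eq hle (by rw [finrank_map_gl, P.dimU, P.dimW])
  intro x hx
  rw [heq]
  exact ⟨x, hx, Matrix.toLin'_apply _ _⟩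

end Swap

/-- The stabiliser of a pair of complementary maximal singular subspaces of even dimension. -/
theorem isMaximalIn_pair [Finite F] (hQ : (QuadraticMap.polarBilin Q).Nondegenerate)
    (hk5 : 5 ≤ k) (hke : Even k) (hcard : Fintype.card ι = 2 * k)
    (D : Fin 2 → Submodule F (ι → F)) (hD : Cfsg.Geo.IsMDecomposition k D)
    (hts : ∀ i, Cfsg.Geo.IsTotallySingularQuad (⇑Q) (D i)) :
    Cfsg.Geo.IsMaximalIn (Cfsg.Geo.omegaGL ⇑Q)
      (Cfsg.Geo.decompositionStabilizer D ⊓ Cfsg.Geo.omegaGL ⇑Q) := by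
  classical
  have hn : 7 ≤ Fintype.card ι := by omega
  have htop : D 0 ⊔ D 1 = ⊤ := by
    rw [← hD.iSup_eq_top]
    exact le_antisymm (sup_le (le_iSup D 0) (le_iSup D 1))
      (iSup_le fun i => by fin_cases i <;> simp)
  have hbot : D 0 ⊓ D 1 = ⊥ :=
    (hD.indep.pairwiseDisjoint (by decide : (0 : Fin 2) ≠ 1)).eq_bot
  have P : SPair Q k (D 0) (D 1) :=
    ⟨hk5, hts 0, hts 1, htop, hbot, hD.finrank_eq 0, hD.finrank_eq 1, hcard⟩
  set H := Cfsg.Geo.decompositionStabilizer D ⊓ Cfsg.Geo.omegaGL ⇑Q with hH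
  have hmk : ∀ (g : GL ι F) (σ : Equiv.Perm (Fin 2)),
      (∀ i, ∀ x ∈ D i, (mat g) *ᵥ x ∈ D (σ i)) → g ∈ Cfsg.Geo.decompositionStabilizer D := by
    refine fun g σ h => ⟨σ, fun i => Submodule.eq_of_le_of_finrank_eq ?_ ?_⟩
    · rintro _ ⟨x, hx, rfl⟩
      rw [Matrix.toLin'_apply]
      exact h i x hx
    · rw [finrank_map_gl, hD.finrank_eq, hD.finrank_eq]
  have hA : Across Q H (D 0) (D 1) := by
    intro p hp r hr hpr
    refine ⟨P.qU p hp, hpr, hmk _ 1 fun i x hx => ?_, E_mem_omega hQ hn _ _⟩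
    rw [eichlerGL_mulVec, P.qW r hr, zero_mul, add_zero]
    revert x
    fin_cases i <;> intro x hx
    · rw [P.polar_U hp hx, zero_smul, add_zero]
      exact (D 0).sub_mem hx ((D 0).smul_mem _ hp)
    · rw [P.polar_W hr hx, zero_smul, sub_zero]
      exact (D 1).add_mem hx ((D 1).smul_mem _ hr)
  obtain ⟨τ, hτΩ, hτ0, hτ1⟩ := exists_swap hQ hn P hke
  have hτH : τ ∈ H := ⟨hmk τ (Equiv.swap 0 1) fun i => by
    fin_cases i
    · simpa using hτ0
    · simpa using hτ1, hτΩ⟩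
  obtain ⟨u₀, hu₀, hu₀0⟩ := (D 0).ne_bot_iff.mp fun h => by
    have := hD.finrank_eq 0
    rw [h, finrank_bot] at this
    omega
  obtain ⟨w₀, hw₀, -, huw⟩ : ∃ w ∈ D 1, w ≠ 0 ∧ polar ⇑Q u₀ w = 1 := by
    obtain ⟨p, hp, -, hpw⟩ := P.swap.sep hQ (S := ⊥) bot_le hu₀ (by simpa using hu₀0)
    refine ⟨p, hp, fun h => ?_, by rw [polar_comm]; exact hpw⟩
    rw [h] at hpw
    simp at hpw
  refine ⟨lt_of_le_of_ne inf_le_right fun heq => ?_, fun M hHM hMΩ => ?_⟩
  · obtain ⟨u₁, hu₁, -, hu₁n⟩ := P.swap.exists_avoid hQ (![] : Fin 0 → ι → F) (F ∙ u₀)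
      (by rw [finrank_span_singleton hu₀0]; omega)
    have hperp := P.polar_U hu₀ hu₁
    have hm : eichlerGL Q u₀ u₁ (P.qU u₀ hu₀) hperp ∈ H :=
      heq.symm ▸ E_mem_omega hQ hn _ _
    obtain ⟨σ, hσ⟩ := hm.1
    set v := (mat (eichlerGL Q u₀ u₁ (P.qU u₀ hu₀) hperp)) *ᵥ w₀ with hv
    have hvmem : v ∈ D (σ 1) := hσ 1 ▸ ⟨w₀, hw₀, by rw [Matrix.toLin'_apply]⟩
    have hve : v = w₀ + (u₁ - polar ⇑Q u₁ w₀ • u₀) := by
      rw [hv, eichlerGL_mulVec, huw, one_smul, P.qU u₁ hu₁, zero_mul, add_zero, add_sub_assoc]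
    have hd : u₁ - polar ⇑Q u₁ w₀ • u₀ ∈ D 0 := (D 0).sub_mem hu₁ ((D 0).smul_mem _ hu₀)
    have hd0 : u₁ - polar ⇑Q u₁ w₀ • u₀ ≠ 0 := fun h =>
      hu₁n (Submodule.mem_span_singleton.2 ⟨_, (sub_eq_zero.1 h).symm⟩)
    have hcases : v ∈ D 0 ∨ v ∈ D 1 := by
      revert hvmem; generalize σ 1 = j; fin_cases j
      · exact Or.inl
      · exact Or.inr
    rw [hve] at hcases
    rcases hcases with h | h
    · have := P.eq_zero_of_mem ((D 0).add_mem_iff_left hd |>.1 h) hw₀
      rw [this] at huw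
      simp at huw
    · exact hd0 (P.eq_zero_of_mem hd ((D 1).add_mem_iff_right hw₀ |>.1 h))
  by_cases hMH : M ≤ H
  · exact Or.inl (le_antisymm hMH hHM)
  obtain ⟨g, hgM, hgH⟩ := SetLike.not_le_iff_exists.mp hMH
  refine Or.inr (le_antisymm hMΩ ?_)
  have hiso : ∀ g ∈ M, ∀ v, Q ((mat g) *ᵥ v) = Q v := fun g hg => omega_iso (hMΩ hg)
  have hAM : Across Q M (D 0) (D 1) := fun p hp r hr h =>
    let ⟨h1, h2, h3⟩ := hA p hp r hr h
    ⟨h1, h2, hHM h3⟩
  have hfullM : ∀ {A C : Submodule F (ι → F)}, SPair Q k A C → Across Q M A C → Within Q M C →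
      ∀ r ∈ C, SingMax.Full Q M r := fun hP hAC hW r hr => hW.full hP hAC hr
  -- some point of `D 0 ∪ D 1` goes to a mixed one
  obtain ⟨i, u, hu, hg0, hg1⟩ : ∃ i, ∃ u ∈ D i,
      (mat g) *ᵥ u ∉ D 0 ∧ (mat g) *ᵥ u ∉ D 1 := by
    by_contra hc
    push Not at hc
    have hsub : ∀ i, ∃ j, (D i).map (Matrix.toLin' (mat g)) = D j := by
      intro i
      have := submodule_sub_or (S := (D i).map (Matrix.toLin' (mat g))) (A := D 0) (B := D 1)
        (by
          rintro _ ⟨x, hx, rfl⟩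
          rw [Matrix.toLin'_apply]
          exact or_iff_not_imp_left.2 (hc i x hx))
      rcases this with h | h
      · exact ⟨0, Submodule.eq_of_le_of_finrank_eq h (by rw [finrank_map_gl, hD.finrank_eq, hD.finrank_eq])⟩
      · exact ⟨1, Submodule.eq_of_le_of_finrank_eq h (by rw [finrank_map_gl, hD.finrank_eq, hD.finrank_eq])⟩
    choose σ hσ using hsub
    have hne : D 0 ≠ D 1 := fun h => by
      have := hD.finrank_eq 0
      rw [← inf_eq_left.2 h.le, hbot, finrank_bot] at this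
      omega
    have hinj : Function.Injective σ := by
      intro a b hab
      have := gl_map_inj (g := g) ((hσ a).trans ((congrArg D hab).trans (hσ b).symm))
      fin_cases a <;> fin_cases b <;> first | rfl | exact absurd this hne | exact absurd this.symm hne
    exact hgH ⟨⟨Equiv.ofBijective σ (Finite.injective_iff_bijective.1 hinj), hσ⟩, hMΩ hgM⟩
  obtain ⟨a, ha, b, hb, hab⟩ := P.decomp ((mat g) *ᵥ u)
  have ha0 : a ≠ 0 := fun h => hg1 (by rw [← hab, h, zero_add]; exact hb)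
  have hb0 : b ≠ 0 := fun h => hg0 (by rw [← hab, h, add_zero]; exact ha)
  -- the source pair, in the two orientations
  obtain ⟨V', Q', hP', hA', hu'⟩ : ∃ V' W' : Submodule F (ι → F),
      SPair Q k V' W' ∧ Across Q M V' W' ∧ u ∈ V' := by
    fin_cases i
    · exact ⟨D 0, D 1, P, hAM, hu⟩
    · exact ⟨D 1, D 0, P.swap, hAM.swap P, hu⟩
  have hdT := finrank_span_range_le (F := F)
    ![(mat g⁻¹) *ᵥ a, (mat g⁻¹) *ᵥ b]
  obtain ⟨c, hc, huc, hcT⟩ := hP'.exists_avoid hQ ![u]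
    (Submodule.span F (Set.range ![(mat g⁻¹) *ᵥ a, (mat g⁻¹) *ᵥ b])) (by omega)
  have hE := (hA' u hu' c hc (huc 0)).map hgM (hiso g hgM)
  rw [← hab] at hE
  obtain ⟨p, hp, r, hr, hpr⟩ := P.decomp ((mat g) *ᵥ c)
  rw [← hpr] at hE
  have hoff : r ∉ F ∙ b ∨ p ∉ F ∙ a := by
    by_contra hcon
    rw [not_or, not_not, not_not] at hcon
    obtain ⟨s, hs⟩ := Submodule.mem_span_singleton.1 hcon.1
    obtain ⟨t, ht⟩ := Submodule.mem_span_singleton.1 hcon.2
    refine hcT ?_
    have e : c = t • ((mat g⁻¹) *ᵥ a) + s • ((mat g⁻¹) *ᵥ b) := by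
      rw [← mulVec_smul, ← mulVec_smul, ← mulVec_add, ht, hs, hpr, mulVec_mulVec, Units.inv_mul,
        one_mulVec]
    rw [e]
    exact Submodule.add_mem _ (Submodule.smul_mem _ _ (Submodule.subset_span ⟨0, rfl⟩))
      (Submodule.smul_mem _ _ (Submodule.subset_span ⟨1, rfl⟩))
  have hfull : SingMax.Full Q M u₀ ∧ SingMax.Full Q M w₀ := by
    have hτiso := hiso τ (hHM hτH)
    have move : ∀ {A C : Submodule F (ι → F)}, (∀ r ∈ C, SingMax.Full Q M r) →
        (∀ x ∈ A, ∃ y ∈ C, (mat τ) *ᵥ y = x) → ∀ x ∈ A, SingMax.Full Q M x := by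
      intro A C hC hAC x hx
      obtain ⟨y, hy, rfl⟩ := hAC x hx
      exact (hC y hy).map (hHM hτH) hτiso
    have onto : ∀ {A C : Submodule F (ι → F)}, Module.finrank F A = k → Module.finrank F C = k →
        (∀ x ∈ C, (mat τ) *ᵥ x ∈ A) → ∀ x ∈ A, ∃ y ∈ C, (mat τ) *ᵥ y = x := by
      intro A C hdA hdC hCA x hx
      have := Submodule.eq_of_le_of_finrank_eq (S₁ := C.map (Matrix.toLin' (mat τ))) (S₂ := A)
        (by rintro _ ⟨y, hy, rfl⟩; rw [Matrix.toLin'_apply]; exact hCA y hy)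
        (by rw [finrank_map_gl, hdA, hdC])
      rw [← this] at hx
      obtain ⟨y, hy, hxy⟩ := hx
      exact ⟨y, hy, (Matrix.toLin'_apply _ _).symm.trans hxy⟩
    rcases hoff with h | h
    · obtain ⟨r₀, hr₀, c₀, hc₀, hr₀0, hind, hp0⟩ :=
        from_mixed hQ hiso P hAM ha hb hb0 hp hr h hE
      have h1 := hfullM P hAM (within_of_pair hQ hiso P hAM hr₀ hc₀ hr₀0 hind hp0)
      exact ⟨move h1 (onto P.dimU P.dimW hτ1) u₀ hu₀, h1 w₀ hw₀⟩
    · rw [add_comm a b, add_comm p r] at hE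
      obtain ⟨r₀, hr₀, c₀, hc₀, hr₀0, hind, hp0⟩ :=
        from_mixed hQ hiso P.swap (hAM.swap P) hb ha ha0 hr hp h hE
      have h1 := hfullM P.swap (hAM.swap P)
        (within_of_pair hQ hiso P.swap (hAM.swap P) hr₀ hc₀ hr₀0 hind hp0)
      exact ⟨h1 u₀ hu₀, move h1 (onto P.dimW P.dimU hτ0) w₀ hw₀⟩
  refine SingMax.omega_le_of_eichler hQ hn fun e a he ha => ?_
  by_cases he0 : e = 0
  · subst he0
    convert M.one_mem
    refine gl_ext' fun y => ?_
    rw [eichlerGL_mulVec]; simp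
  exact SingMax.full_all hQ hfull.1 hfull.2 (P.qU u₀ hu₀) (P.qW w₀ hw₀)
    (by rw [huw]; exact one_ne_zero) he he0 a he ha

end Cfsg.Agent.Lib.SingPair
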