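import Cfsg.Agent.Lib.SingMax.Basic

/-!
Maximality in `Ω` of the stabiliser of two complementary maximal totally singular subspaces
of even dimension, in every characteristic.
-/

set_option autoImplicit false
set_option linter.unusedSectionVars false

namespace Cfsg.Agent.Lib.SingPair

open Matrix QuadraticMap
open Cfsg.Agent.Lib.FormMax.OrthSL (eichlerGL eichlerGL_mulVec Q_eichlerGL)
open Cfsg.Agent.Lib.SingMax (gl_ext' polar_of_iso conj_E E_add Full)

variable {ι : Type} [Fintype ι] [DecidableEq ι] {F : Type*} [Field F]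
  {Q : QuadraticForm F (ι → F)}

local notation "mat" g:max => ((g : GL ι F) : Matrix ι ι F)

/-- The Eichler element `E(x,y)` is in `M`. -/
def EIn (Q : QuadraticForm F (ι → F)) (M : Subgroup (GL ι F)) (x y : ι → F) : Prop :=
  ∃ (hx : Q x = 0) (hy : polar ⇑Q x y = 0), eichlerGL Q x y hx hy ∈ M

variable {M : Subgroup (GL ι F)} {x y z : ι → F}

theorem EIn.map {g : GL ι F} (hgM : g ∈ M) (hg : ∀ v, Q ((mat g) *ᵥ v) = Q v)
    (h : EIn Q M x y) : EIn Q M ((mat g) *ᵥ x) ((mat g) *ᵥ y) := by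
  obtain ⟨hx, hy, h⟩ := h
  refine ⟨(hg x).trans hx, (polar_of_iso hg x y).trans hy, ?_⟩
  have h1 := M.mul_mem (M.mul_mem hgM h) (M.inv_mem hgM)
  rwa [conj_E hg] at h1

theorem EIn.add (h1 : EIn Q M x y) (h2 : EIn Q M x z) : EIn Q M x (y + z) := by
  obtain ⟨hx, hy, hm1⟩ := h1
  obtain ⟨_, hz, hm2⟩ := h2
  refine ⟨hx, by rw [polar_add_right, hy, hz, add_zero], ?_⟩
  have := M.mul_mem hm1 hm2
  rwa [E_add hx hy hz] at this

theorem EIn.cancel (h1 : EIn Q M x (y + z)) (h2 : EIn Q M x y) : EIn Q M x z := by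
  obtain ⟨hx, hy, hm2⟩ := h2
  obtain ⟨_, hyz, hm1⟩ := h1
  have hz : polar ⇑Q x z = 0 := by rwa [polar_add_right, hy, zero_add] at hyz
  refine ⟨hx, hz, ?_⟩
  have := M.mul_mem (M.inv_mem hm2) hm1
  rwa [← E_add hx hy hz, inv_mul_cancel_left] at this

theorem eIn_zero_right (hx : Q x = 0) : EIn Q M x 0 := by
  refine ⟨hx, by simp, ?_⟩
  convert M.one_mem
  refine gl_ext' fun v => ?_
  rw [eichlerGL_mulVec]
  simp

theorem eIn_zero_left (M : Subgroup (GL ι F)) (y : ι → F) : EIn Q M 0 y := by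
  refine ⟨map_zero Q, by simp, ?_⟩
  convert M.one_mem
  refine gl_ext' fun v => ?_
  rw [eichlerGL_mulVec]
  simp

theorem EIn.neg (h : EIn Q M x y) : EIn Q M x (-y) :=
  EIn.cancel (z := -y) (by rw [add_neg_cancel]; exact eIn_zero_right h.1) h

theorem EIn.symm (hy : Q y = 0) (h : EIn Q M x y) : EIn Q M y (-x) := by
  obtain ⟨hx, hxy, h⟩ := h
  have hyx : polar ⇑Q y (-x) = 0 := by rw [polar_neg_right, polar_comm, hxy, neg_zero]
  refine ⟨hy, hyx, ?_⟩
  convert h using 1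
  refine gl_ext' fun v => ?_
  rw [eichlerGL_mulVec, eichlerGL_mulVec, hy, QuadraticMap.map_neg, hx, polar_neg_left]
  module

/-- Two complementary maximal totally singular subspaces. -/
structure SPair (Q : QuadraticForm F (ι → F)) (k : ℕ) (U W : Submodule F (ι → F)) : Prop where
  five_le : 5 ≤ k
  qU : ∀ u ∈ U, Q u = 0
  qW : ∀ u ∈ W, Q u = 0
  sup : U ⊔ W = ⊤
  inf : U ⊓ W = ⊥
  dimU : Module.finrank F U = k
  dimW : Module.finrank F W = k
  card : Fintype.card ι = 2 * k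

variable {k : ℕ} {U W : Submodule F (ι → F)}

theorem SPair.swap (P : SPair Q k U W) : SPair Q k W U :=
  ⟨P.five_le, P.qW, P.qU, sup_comm U W ▸ P.sup, inf_comm U W ▸ P.inf, P.dimW, P.dimU, P.card⟩

theorem SPair.polar_U (P : SPair Q k U W) {u v : ι → F} (hu : u ∈ U) (hv : v ∈ U) :
    polar ⇑Q u v = 0 := by
  simp [QuadraticMap.polar, P.qU u hu, P.qU v hv, P.qU _ (U.add_mem hu hv)]

theorem SPair.polar_W (P : SPair Q k U W) {u v : ι → F} (hu : u ∈ W) (hv : v ∈ W) :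
    polar ⇑Q u v = 0 :=
  P.swap.polar_U hu hv

theorem SPair.decomp (P : SPair Q k U W) (v : ι → F) : ∃ p ∈ U, ∃ r ∈ W, p + r = v :=
  Submodule.mem_sup.1 (P.sup.symm ▸ Submodule.mem_top (x := v))

theorem SPair.eq_zero_of_mem (P : SPair Q k U W) {v : ι → F} (hu : v ∈ U) (hw : v ∈ W) : v = 0 := by
  have : v ∈ U ⊓ W := ⟨hu, hw⟩
  rwa [P.inf, Submodule.mem_bot] at this

theorem finrank_span_range_le {t : ℕ} (f : Fin t → ι → F) :
    Module.finrank F (Submodule.span F (Set.range f)) ≤ t := by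
  have h := finrank_range_le_card (R := F) f
  rwa [Fintype.card_fin] at h

section Nondeg

variable (hQ : (QuadraticMap.polarBilin Q).Nondegenerate)
include hQ

/-- A vector of `U` separating a point of `W` from a subspace of `W`. -/
theorem SPair.sep (P : SPair Q k U W) {S : Submodule F (ι → F)} (hS : S ≤ W) {y : ι → F}
    (hy : y ∈ W) (hyS : y ∉ S) :
    ∃ p ∈ U, (∀ s ∈ S, polar ⇑Q p s = 0) ∧ polar ⇑Q p y = 1 := by
  have good := Forms.IsGoodForm.of_quadratic hQ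
  have hnot : y ∉ U ⊔ S := by
    intro h
    obtain ⟨p, hp, s, hs, hps⟩ := Submodule.mem_sup.mp h
    have hpW : p ∈ W := by rw [eq_sub_of_add_eq hps]; exact W.sub_mem hy (hS hs)
    rw [P.eq_zero_of_mem hp hpW, zero_add] at hps
    exact hyS (hps ▸ hs)
  obtain ⟨a, ha, -, hay⟩ := good.exists_sep hnot
  refine ⟨a, ?_, fun s hs => ha s (Submodule.mem_sup_right hs), hay⟩
  obtain ⟨a₀, ha₀, a₁, ha₁, rfl⟩ := P.decomp a
  have h0 : a₁ = 0 := hQ.1 a₁ fun v => by
    obtain ⟨v₀, hv₀, v₁, hv₁, rfl⟩ := P.decomp v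
    show polar ⇑Q a₁ (v₀ + v₁) = 0
    have h1 : polar ⇑Q (a₀ + a₁) v₀ = 0 := ha v₀ (Submodule.mem_sup_left hv₀)
    rw [polar_add_left, P.polar_U ha₀ hv₀, zero_add] at h1
    rw [polar_add_right, h1, P.polar_W ha₁ hv₁, add_zero]
  rw [h0, add_zero]
  exact ha₀

/-- A vector of `W` orthogonal to few vectors and outside a small subspace. -/
theorem SPair.exists_avoid (P : SPair Q k U W) {t : ℕ} (f : Fin t → ι → F)
    (T : Submodule F (ι → F)) (h : t + Module.finrank F T < k) :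
    ∃ r ∈ W, (∀ i, polar ⇑Q (f i) r = 0) ∧ r ∉ T := by
  set K := Forms.perp (QuadraticMap.polarBilin Q) (Submodule.span F (Set.range f))
  have h1 : Module.finrank F (ι → F) ≤ Module.finrank F K + t :=
    Forms.le_finrank_perp_range hQ f
  have h2 := Submodule.finrank_sup_add_finrank_inf_eq W K
  have h3 := Submodule.finrank_le (W ⊔ K)
  have h4 := P.dimW
  have h5 := P.card
  rw [Module.finrank_fintype_fun_eq_card] at h1 h3
  obtain ⟨r, hr, hrT⟩ : ∃ r ∈ W ⊓ K, r ∉ T := by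
    by_contra hc
    push Not at hc
    have h6 := Submodule.finrank_mono (show W ⊓ K ≤ T from hc)
    have h7 : Module.finrank F (Submodule.span F (Set.range f)) ≤ t := finrank_span_range_le f
    omega
  exact ⟨r, hr.1, Forms.mem_perp_range.mp hr.2, hrT⟩

end Nondeg

/-- `M` contains the Eichler elements in both orders of orthogonal pairs across `U`, `W`. -/
def Across (Q : QuadraticForm F (ι → F)) (M : Subgroup (GL ι F))
    (U W : Submodule F (ι → F)) : Prop :=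
  ∀ p ∈ U, ∀ r ∈ W, polar ⇑Q p r = 0 → EIn Q M p r

theorem Across.swap (P : SPair Q k U W) (h : Across Q M U W) : Across Q M W U := by
  intro r hr p hp hrp
  have h1 := ((h p hp r hr ((polar_comm _ p r).trans hrp)).symm (P.qW r hr)).neg
  rwa [neg_neg] at h1

/-- All Eichler elements of pairs inside `W` are in `M`. -/
def Within (Q : QuadraticForm F (ι → F)) (M : Subgroup (GL ι F))
    (W : Submodule F (ι → F)) : Prop :=
  ∀ r ∈ W, ∀ c ∈ W, EIn Q M r c

theorem Within.full (P : SPair Q k U W) (hA : Across Q M U W) (hW : Within Q M W) {r : ι → F}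
    (hr : r ∈ W) : Full Q M r := by
  intro a hq ha
  obtain ⟨p, hp, c, hc, rfl⟩ := P.decomp a
  have hrp : polar ⇑Q r p = 0 := by
    rwa [polar_add_right, P.polar_W hr hc, add_zero] at ha
  obtain ⟨_, _, h⟩ := (hA.swap P r hr p hp hrp).add (hW r hr c hc)
  exact h

section Nondeg

variable (hQ : (QuadraticMap.polarBilin Q).Nondegenerate)
  (hiso : ∀ g ∈ M, ∀ v : ι → F, Q ((g : Matrix ι ι F) *ᵥ v) = Q v)
include hQ hiso

/-- A mixed centre with an Eichler element off the plane gives a pair inside `W`. -/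
theorem from_mixed (P : SPair Q k U W) (hA : Across Q M U W) {a b p r : ι → F} (ha : a ∈ U)
    (hb : b ∈ W) (hb0 : b ≠ 0) (hp : p ∈ U) (hr : r ∈ W)
    (hrb : r ∉ F ∙ b) (hE : EIn Q M (a + b) (p + r)) :
    ∃ r₀ ∈ W, ∃ c₀ ∈ W, r₀ ≠ 0 ∧ c₀ ∉ F ∙ r₀ ∧ EIn Q M r₀ c₀ := by
  obtain ⟨q, hq, hqb, hqr⟩ := P.sep hQ
    (S := F ∙ b) (by rwa [Submodule.span_singleton_le_iff_mem]) hr hrb
  have hqb' : polar ⇑Q q b = 0 := hqb b (Submodule.mem_span_singleton_self b)
  have hdb : Module.finrank F (F ∙ b) ≤ 1 := (finrank_span_singleton hb0).le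
  have h5 := P.five_le
  obtain ⟨s, hs, hsf, hsb⟩ := P.exists_avoid hQ ![a, q, p] (F ∙ b) (by omega)
  have has : polar ⇑Q a s = 0 := hsf 0
  have hqs : polar ⇑Q q s = 0 := hsf 1
  have hps : polar ⇑Q p s = 0 := hsf 2
  obtain ⟨hqQ, hqs', hh⟩ := hA q hq s hs hqs
  have h1 := hE.map hh (hiso _ hh)
  have ex : (mat (eichlerGL Q q s hqQ hqs')) *ᵥ (a + b) = a + b := by
    rw [eichlerGL_mulVec, polar_add_right, P.polar_U hq ha, hqb', polar_add_right, polar_comm _ s a,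
      has, P.polar_W hs hb]
    simp
  have ey : (mat (eichlerGL Q q s hqQ hqs')) *ᵥ (p + r) = p + r + s := by
    rw [eichlerGL_mulVec, polar_add_right, P.polar_U hq hp, hqr, polar_add_right, polar_comm _ s p,
      hps, P.polar_W hs hr, P.qW s hs]
    simp
  rw [ex, ey] at h1
  have h2 := (h1.cancel hE).symm (P.qW s hs)
  rw [neg_add] at h2
  have h3 : EIn Q M s (-a) := ((hA.swap P) s hs a ha (by rw [polar_comm]; exact has)).neg
  refine ⟨s, hs, -b, W.neg_mem hb, fun h => hsb (h ▸ Submodule.zero_mem _), ?_, h2.cancel h3⟩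
  intro hc
  obtain ⟨c, hc⟩ := Submodule.mem_span_singleton.1 hc
  have hc0 : c ≠ 0 := fun h => hb0 (by rw [h, zero_smul] at hc; simpa using hc.symm)
  refine hsb (Submodule.mem_span_singleton.2 ⟨-c⁻¹, ?_⟩)
  rw [← neg_neg b, ← hc, smul_neg, neg_smul, neg_neg, smul_smul, inv_mul_cancel₀ hc0, one_smul]

/-- One independent pair inside `W` gives all pairs with the same centre. -/
theorem within_centre (P : SPair Q k U W) (hA : Across Q M U W) {r₀ c₀ : ι → F} (hr : r₀ ∈ W)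
    (hc : c₀ ∈ W) (hind : c₀ ∉ F ∙ r₀) (hE : EIn Q M r₀ c₀) :
    ∀ c ∈ W, EIn Q M r₀ c := by
  have key : ∀ c₁ ∈ W, EIn Q M r₀ c₁ → ∀ q ∈ U, polar ⇑Q q r₀ = 0 → polar ⇑Q q c₁ = 1 →
      ∀ s ∈ W, polar ⇑Q q s = 0 → EIn Q M r₀ s := by
    intro c₁ hc₁ hE₁ q hq hqr hqc s hs hqs
    obtain ⟨hqQ, hqs', hh⟩ := hA q hq s hs hqs
    have h1 := hE₁.map hh (hiso _ hh)
    have ex : (mat (eichlerGL Q q s hqQ hqs')) *ᵥ r₀ = r₀ := by
      rw [eichlerGL_mulVec, hqr, P.polar_W hs hr]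
      simp
    have ey : (mat (eichlerGL Q q s hqQ hqs')) *ᵥ c₁ = c₁ + s := by
      rw [eichlerGL_mulVec, hqc, P.polar_W hs hc₁, P.qW s hs]
      simp
    rw [ex, ey] at h1
    exact h1.cancel hE₁
  have hS : (F ∙ r₀) ≤ W := by rwa [Submodule.span_singleton_le_iff_mem]
  obtain ⟨q, hq, hqr, hqc⟩ := P.sep hQ hS hc hind
  have hqr' : polar ⇑Q q r₀ = 0 := hqr r₀ (Submodule.mem_span_singleton_self r₀)
  have h5 := P.five_le
  have hd := finrank_span_range_le (F := F) ![r₀, c₀]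
  obtain ⟨c₁, hc₁, hqc₁, hc₁n⟩ := P.exists_avoid hQ ![q]
    (Submodule.span F (Set.range ![r₀, c₀])) (by omega)
  have hqc₁' : polar ⇑Q q c₁ = 0 := hqc₁ 0
  have hE₁ := key c₀ hc hE q hq hqr' hqc c₁ hc₁ hqc₁'
  obtain ⟨q', hq', hq'S, hq'c⟩ := P.sep hQ (S := Submodule.span F (Set.range ![r₀, c₀]))
    (Submodule.span_le.2 (by rintro _ ⟨i, rfl⟩; fin_cases i <;> assumption)) hc₁ hc₁n
  intro c hcW
  set t := polar ⇑Q q c with ht
  have h1 : EIn Q M r₀ (c - t • c₀) := key c₀ hc hE q hq hqr' hqc _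
    (W.sub_mem hcW (W.smul_mem _ hc))
    (by rw [polar_sub_right, polar_smul_right, hqc, smul_eq_mul, mul_one, sub_self])
  have h2 : EIn Q M r₀ (t • c₀) := key c₁ hc₁ hE₁ q' hq'
    (hq'S _ (Submodule.subset_span ⟨0, rfl⟩)) hq'c _ (W.smul_mem _ hc)
    (by rw [polar_smul_right, hq'S c₀ (Submodule.subset_span ⟨1, rfl⟩), smul_zero])
  have := h1.add h2
  rwa [sub_add_cancel] at this

/-- One independent pair inside `W` gives all pairs inside `W`. -/
theorem within_of_pair (P : SPair Q k U W) (hA : Across Q M U W) {r₀ c₀ : ι → F} (hr : r₀ ∈ W)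
    (hc : c₀ ∈ W) (hr₀ne : r₀ ≠ 0) (hind : c₀ ∉ F ∙ r₀) (hE : EIn Q M r₀ c₀) : Within Q M W := by
  intro r hrW c hcW
  by_cases hr0 : r = 0
  · subst hr0; exact eIn_zero_left M c
  have h5 := P.five_le
  have hd := finrank_span_range_le (F := F) ![r₀, r]
  obtain ⟨c₁, hc₁, -, hc₁n⟩ := P.exists_avoid hQ (![] : Fin 0 → ι → F)
    (Submodule.span F (Set.range ![r₀, r])) (by omega)
  have hr₀0 : r₀ ∈ Submodule.span F (Set.range ![r₀, r]) := Submodule.subset_span ⟨0, rfl⟩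
  have hr1 : r ∈ Submodule.span F (Set.range ![r₀, r]) := Submodule.subset_span ⟨1, rfl⟩
  have hc₁0 : c₁ ≠ 0 := fun h => hc₁n (h ▸ Submodule.zero_mem _)
  have key : ∀ {v : ι → F}, v ∈ Submodule.span F (Set.range ![r₀, r]) → v ≠ 0 → v ∉ F ∙ c₁ := by
    intro v hv hv0 h
    obtain ⟨s, rfl⟩ := Submodule.mem_span_singleton.1 h
    have hs : s ≠ 0 := fun h => hv0 (by rw [h, zero_smul])
    exact hc₁n (by simpa [smul_smul, inv_mul_cancel₀ hs] using
      Submodule.smul_mem _ s⁻¹ hv)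
  have e1 := (within_centre hQ hiso P hA hr hc hind hE c₁ hc₁).symm (P.qW c₁ hc₁)
  have e2 := (within_centre hQ hiso P hA hc₁ (W.neg_mem hr)
    (key (Submodule.neg_mem _ hr₀0) (neg_ne_zero.2 hr₀ne)) e1 r hrW).symm (P.qW r hrW)
  refine within_centre hQ hiso P hA hrW (W.neg_mem hc₁) ?_ e2 c hcW
  intro h
  obtain ⟨s, hs⟩ := Submodule.mem_span_singleton.1 h
  exact hc₁n (by rw [← neg_neg c₁, ← hs, ← neg_smul]; exact Submodule.smul_mem _ _ hr1)

end Nondeg

end Cfsg.Agent.Lib.SingPair
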